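import Cfsg.Agent.E6TwoF4.Checks

/-!
The images in `E₆` of the root elements of `F₄(2)` satisfy the commutator relations.
-/

set_option autoImplicit false

namespace CfsgLib.E6TwoF4

open Cfsg.Lie CfsgLib.Chevalley

variable (K : Type*) [Field K]

theorem xPA (A B : List ℕ) : Sys.xProd sysE6 K (A ++ B) (fun _ => (1 : K)) =
    Sys.xProd sysE6 K A (fun _ => 1) * Sys.xProd sysE6 K B (fun _ => 1) := by
  simp [Sys.xProd, List.prod_append]

/-- The image of a root element. -/
noncomputable def g (r : ℕ) : GL chevE6.Idx K := Sys.xProd sysE6 K (fib r) fun _ => 1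

/-- The product over a list. -/
noncomputable def gP (L : List ℕ) : GL chevE6.Idx K := (L.map (g K)).prod

theorem xProd_flatMap (L : List ℕ) :
    Sys.xProd sysE6 K (L.flatMap fib) (fun _ => (1 : K)) = gP K L := by
  induction L with
  | nil => simp [gP, Sys.xProd_nil]
  | cons r L ih => simp only [gP, List.map_cons, List.prod_cons, List.flatMap_cons, xPA, ih]; rfl

variable [CharP K 2]

/-- The interchanging element. -/
noncomputable def mE (i : ℕ) : GL chevE6.Idx K :=
  g K (chevF4.simple i) * g K (chevF4.neg (chevF4.simple i)) * g K (chevF4.simple i)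

theorem g_sq {r : ℕ} (hr : r < 48) : g K r * g K r = 1 := by
  have h := chk_sq
  simp only [List.all_eq_true, List.mem_range] at h
  have e := Sys.wordEqBit_sound K sysE6 (h r hr)
  rwa [xPA, Sys.xProd_nil] at e

theorem mE_eq (i : ℕ) : mE K i = Sys.xProd sysE6 K (mWd i) fun _ => 1 := by
  simp [mE, g, mWd, xPA, mul_assoc]

theorem mE_sq {i : ℕ} (hi : i < 4) : mE K i * mE K i = 1 := by
  have h := chk_m
  simp only [List.all_eq_true, List.mem_range] at h
  have e := Sys.wordEqBit_sound K sysE6 (h i hi)
  rwa [xPA, Sys.xProd_nil, ← mE_eq] at e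

theorem conj_g {i r : ℕ} (hi : i < 4) (hr : r < 48) :
    mE K i * g K r * mE K i = g K (rf i r) := by
  have h := chk_conj
  simp only [List.all_eq_true, List.mem_range] at h
  have e := Sys.wordEqBit_sound K sysE6 (h i hi r hr)
  rwa [xPA, xPA, ← mE_eq] at e

theorem conj_gP {i : ℕ} (hi : i < 4) : ∀ L : List ℕ, (∀ r ∈ L, r < 48) →
    mE K i * gP K L * mE K i = gP K (L.map (rf i)) := by
  intro L
  induction L with
  | nil => intro _; simp [gP, mE_sq K hi]
  | cons r L ih =>
    intro h
    rw [List.forall_mem_cons] at h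
    simp only [gP, List.map_cons, List.prod_cons] at ih ⊢
    rw [← conj_g K hi h.1, ← ih h.2]
    simp only [mul_assoc]
    rw [← mul_assoc (mE K i) (mE K i), mE_sq K hi, one_mul]

/-- The commutator relations. -/
theorem rel : ∀ r < 48, ∀ s < 48, s ≠ r → s ≠ chevF4.neg r →
    g K s * g K r * g K s * g K r = gP K (cimg r s) := by
  have base : ∀ r ∈ [24, 33], ∀ s < 48, s ≠ r → s ≠ chevF4.neg r →
      g K s * g K r * g K s * g K r = gP K (cimg r s) := by
    intro r hr s hs h1 h2
    have h := chk_comm
    simp only [List.all_eq_true, List.mem_range, Bool.or_eq_true, decide_eq_true_eq] at h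
    have e := Sys.wordEqBit_sound K sysE6 (((h r hr s hs).resolve_left fun hh => hh.elim h1 h2))
    rwa [xPA, xPA, xPA, xProd_flatMap] at e
  refine reach (base 24 (by simp)) (base 33 (by simp)) fun i hi r hr ih s hs h1 h2 => ?_
  obtain ⟨-, hrr, hneg⟩ := rf_facts i hi r hr
  obtain ⟨hs', hss, -⟩ := rf_facts i hi s hs
  set s' := rf i s with hs'def
  have n1 : s' ≠ r := fun e => h1 (by rw [← hss, e])
  have n2 : s' ≠ chevF4.neg r := fun e => h2 (by rw [← hss, e, hneg])
  have e := congrArg (fun x => mE K i * x * mE K i) (ih s' hs' n1 n2)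
  have hm := mE_sq K hi
  have mm : ∀ x y : GL chevE6.Idx K,
      (mE K i * x * mE K i) * (mE K i * y * mE K i) = mE K i * (x * y) * mE K i := by
    intro x y
    simp only [mul_assoc]
    rw [← mul_assoc (mE K i) (mE K i), hm, one_mul]
  rw [conj_gP K hi _ (cimg_lt r hr s' hs'), ← mm, ← mm, ← mm, conj_g K hi hr, conj_g K hi hs',
    hss] at e
  rw [e]
  rcases chk_equiv i hi r hr s' hs' with h | h | h
  · exact absurd h n1
  · exact absurd h n2
  · rw [← h, hss]

end CfsgLib.E6TwoF4
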