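import Cfsg.Agent.Chevalley.EvalTwo
import Cfsg.Agent.Chevalley.Data.SysE6
import Cfsg.Agent.Chevalley.Data.SysF4

/-!
A copy of `F₄(2)` inside `E₆` in characteristic two: the images of the root elements and the
checks of the relations among them.
-/

set_option autoImplicit false

namespace CfsgLib.E6TwoF4

open Cfsg.Lie CfsgLib.Chevalley

/-- The roots of `E₆` over a root of `F₄`. -/
def fibL : List (List ℕ) := [[0], [1], [2], [3, 5], [6], [8], [11], [4, 16], [7, 17], [9, 19], [12, 26], [10, 22], [13, 30], [14, 33], [15, 35], [18], [20], [27], [21, 23], [28, 31], [29, 34], [24], [32], [25], [46], [39], [47], [37, 42], [40, 43], [48, 50], [44], [51], [53], [36, 56], [38, 57], [41, 58], [49, 61], [45, 59], [52, 62], [54, 64], [55, 67], [60], [63], [65], [66, 68], [69], [70], [71]]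

/-- The word of a root. -/
def fib (r : ℕ) : List ℕ := fibL.getD r []

/-- The reflections of `F₄`. -/
def rf (i r : ℕ) : ℕ := chevF4.reflectRoot i r

/-- The word interchanging a fundamental root with its negative. -/
def mWd (i : ℕ) : List ℕ :=
  fib (chevF4.simple i) ++ fib (chevF4.neg (chevF4.simple i)) ++ fib (chevF4.simple i)

/-- The roots on the right of a commutator relation, with parameter one, modulo two. -/
def cimg (r s : ℕ) : List ℕ :=
  ((chevF4.commTerms r s).filter fun c => decide (c.2.1 % (2 : ℤ) ≠ 0)).map fun c => c.1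

/-- A list in which the reflections reach every root. -/
def order : List ℕ := [24, 33, 26, 23, 14, 34, 31, 25, 21, 13, 27, 35, 42, 32, 30, 22, 16, 20, 12, 28, 37, 36, 43, 41, 17, 5, 15, 19, 10, 11, 29, 38, 45, 6, 4, 18, 9, 39, 46, 2, 8, 40, 47, 1, 7, 44, 0, 3]

theorem order_reach : ∀ r < 48, r ∈ [24, 33] ∨
    ∃ i < 4, ∃ s ∈ order.take (order.idxOf r), rf i s = r := by decide +kernel

/-- Reachability by reflections. -/
theorem reach {P : ℕ → Prop} (h0 : P 24) (h1 : P 33)
    (hs : ∀ i < 4, ∀ r < 48, P r → P (rf i r)) : ∀ r < 48, P r := by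
  suffices h : ∀ k, ∀ r < 48, order.idxOf r < k → P r from fun r hr => h _ r hr (Nat.lt_succ_self _)
  intro k
  induction k with
  | zero => intro r _ hk; omega
  | succ k ih =>
    intro r hr hk
    rcases order_reach r hr with h | ⟨i, hi, s, hs', rfl⟩
    · simp only [List.mem_cons, List.not_mem_nil, or_false] at h
      rcases h with rfl | rfl <;> assumption
    · obtain ⟨j, hj, hjs⟩ := List.mem_take_iff_getElem.mp hs'
      have hjl : j < order.length := by omega
      have h48 : s < 48 :=
        hjs ▸ (by decide +kernel : ∀ x ∈ order, x < 48) _ (List.getElem_mem hjl)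
      refine hs i hi _ h48 (ih _ h48 ?_)
      have hn : order.Nodup := by decide +kernel
      have e := hn.idxOf_getElem j hjl
      rw [hjs] at e
      omega

theorem chk_sq : ((List.range 48).all fun r => wordEqBit chevE6 (fib r ++ fib r) []) = true := by
  decide +kernel

theorem chk_m : ((List.range 4).all fun i => wordEqBit chevE6 (mWd i ++ mWd i) []) = true := by
  decide +kernel

theorem chk_conj : ((List.range 4).all fun i => (List.range 48).all fun r =>
    wordEqBit chevE6 (mWd i ++ fib r ++ mWd i) (fib (rf i r))) = true := by decide +kernel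

theorem chk_comm : ([24, 33].all fun r => (List.range 48).all fun s =>
    decide (s = r) || decide (s = chevF4.neg r) ||
      wordEqBit chevE6 (fib s ++ fib r ++ fib s ++ fib r) ((cimg r s).flatMap fib)) = true := by
  decide +kernel

theorem chk_equiv : ∀ i < 4, ∀ r < 48, ∀ s < 48, s = r ∨ s = chevF4.neg r ∨
    cimg (rf i r) (rf i s) = (cimg r s).map (rf i) := by decide +kernel

theorem rf_facts : ∀ i < 4, ∀ r < 48, rf i r < 48 ∧ rf i (rf i r) = r ∧
    rf i (chevF4.neg r) = chevF4.neg (rf i r) := by decide +kernel

theorem cimg_lt : ∀ r < 48, ∀ s < 48, ∀ k ∈ cimg r s, k < 48 := by decide +kernel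

end CfsgLib.E6TwoF4
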