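import Cfsg.Agent.E6TwoF4.Base
import Cfsg.Agent.ChevSteinberg.SteinbergKernel
import Cfsg.Agent.ChevSteinberg.Data
import Cfsg.Agent.S1054
import Cfsg.Agent.Eq.Def_LieTwisted
import Cfsg.Agent.TwistedLie.Frob
import Cfsg.Agent.TwistedLie.Base

/-!
The embedding of `F₄(2)` in `²E₆(2)`.
-/

set_option autoImplicit false

namespace CfsgLib.E6TwoF4

open Cfsg.Lie CfsgLib.Chevalley CfsgLib.ChevSteinberg

variable (K : Type*) [Field K] [CharP K 2]

local notation "F₂" => ZMod 2

theorem zmod2 (x : F₂) : x = 0 ∨ x = 1 := by revert x; decide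

/-- The images of the generators. -/
noncomputable def img (r : ℕ) (t : F₂) : GL chevE6.Idx K := if t = 0 then 1 else g K r

theorem neg_lt48 : ∀ r < 48, chevF4.neg r < 48 := by decide +kernel

theorem terms_pos : ∀ r < 48, ∀ s < 48, ∀ c ∈ chevF4.commTerms r s,
    0 < c.2.2.1 ∧ 0 < c.2.2.2 ∧ c.1 < 48 := by decide +kernel

/-- The lift to the free group. -/
noncomputable def liftF : FreeGroup (Fin chevF4.nroots × F₂) →* GL chevE6.Idx K :=
  FreeGroup.lift fun p => img K p.1 p.2

theorem liftF_stX {r : ℕ} (hr : r < 48) (t : F₂) : liftF K (chevF4.stX r t) = img K r t := by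
  rw [ChevalleyDatum.stX, dif_pos (show r < chevF4.nroots from hr), liftF, FreeGroup.lift_apply_of]

theorem liftF_word : ∀ w : List (ℕ × F₂), (∀ p ∈ w, p.1 < 48) →
    liftF K (chevF4.stWord w) = (w.map fun p => img K p.1 p.2).prod := by
  intro w
  induction w with
  | nil => intro _; simp [ChevalleyDatum.stWord]
  | cons p w ih =>
    intro h
    rw [List.forall_mem_cons] at h
    rw [ChevalleyDatum.stWord, List.map_cons, List.prod_cons, map_mul, ← ChevalleyDatum.stWord,
      liftF_stX K h.1, ih h.2, List.map_cons, List.prod_cons]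

theorem img_sq {r : ℕ} (hr : r < 48) (t : F₂) : img K r t * img K r t = 1 := by
  rcases zmod2 t with rfl | rfl
  · simp [img]
  · simp [img, g_sq K hr]

theorem img_comm {r s : ℕ} (hr : r < 48) (hs : s < 48) (t u : F₂) :
    ((chevF4.commWord F₂ r s t u).map fun p => img K p.1 p.2).prod =
      if t = 0 ∨ u = 0 then 1 else gP K (cimg r s) := by
  simp only [ChevalleyDatum.commWord, List.map_map, Function.comp_def]
  split_ifs with h
  · refine List.prod_eq_one fun x hx => ?_
    obtain ⟨c, hc, rfl⟩ := List.mem_map.mp hx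
    obtain ⟨hi, hj, -⟩ := terms_pos r hr s hs c hc
    rcases h with rfl | rfl
    · simp [img, zero_pow hi.ne']
    · simp [img, zero_pow hj.ne']
  · push Not at h
    obtain rfl := (zmod2 t).resolve_left h.1
    obtain rfl := (zmod2 u).resolve_left h.2
    unfold cimg gP
    generalize chevF4.commTerms r s = L
    induction L with
    | nil => rfl
    | cons c L ih =>
      rw [List.map_cons, List.prod_cons, ih]
      have hc : ((c.2.1 : F₂) * (-1) ^ c.2.2.1 * 1 ^ c.2.2.2) = (c.2.1 : F₂) := by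
        rw [show (-1 : F₂) = 1 from by decide]; simp
      rcases Int.emod_two_eq_zero_or_one c.2.1 with e | e
      · have : (c.2.1 : F₂) = 0 := (ZMod.intCast_zmod_eq_zero_iff_dvd _ 2).2 (by omega)
        simp [img, hc, this, e]
      · have : (c.2.1 : F₂) ≠ 0 := fun h0 => by
          have := (ZMod.intCast_zmod_eq_zero_iff_dvd _ 2).1 h0
          omega
        simp [img, hc, this, e]

theorem liftF_rels : ∀ x ∈ chevF4.steinbergRels F₂, liftF K x = 1 := by
  rintro x ((⟨r, t₁, t₂, hr, rfl⟩ | ⟨r, s, t, u, hr, hs, h1, h2, rfl⟩) |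
    ⟨r, t₁, t₂, hr, h1, h2, rfl⟩)
  · replace hr : r < 48 := hr
    simp only [map_mul, map_inv, liftF_stX K hr]
    rcases zmod2 t₁ with rfl | rfl <;> rcases zmod2 t₂ with rfl | rfl <;>
      simp [img, g_sq K hr, show (1 : F₂) + 1 = 0 from by decide]
  · replace hr : r < 48 := hr
    replace hs : s < 48 := hs
    have hw : ∀ p ∈ chevF4.commWord F₂ r s t u, p.1 < 48 := by
      intro p hp
      obtain ⟨c, hc, rfl⟩ := List.mem_map.1 hp
      exact (terms_pos r hr s hs c hc).2.2
    simp only [map_mul, map_inv, liftF_stX K hr, liftF_stX K hs, liftF_word K _ hw,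
      img_comm K hr hs, inv_eq_of_mul_eq_one_right (img_sq K hr t),
      inv_eq_of_mul_eq_one_right (img_sq K hs u)]
    rw [mul_inv_eq_one]
    rcases zmod2 t with rfl | rfl
    · simpa [img] using img_sq K hs u
    rcases zmod2 u with rfl | rfl
    · simpa [img] using g_sq K hr
    simpa [img] using rel K r hr s hs h1 h2
  · replace hr : r < 48 := hr
    obtain rfl := (zmod2 t₁).resolve_left h1
    obtain rfl := (zmod2 t₂).resolve_left h2
    have hn : chevF4.neg r < 48 := neg_lt48 r hr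
    have hw : ∀ p ∈ chevF4.hWord r (1 : F₂), p.1 < 48 := by
      intro p hp
      simp only [ChevalleyDatum.hWord, ChevalleyDatum.nWord, List.cons_append, List.nil_append,
        List.mem_cons, List.not_mem_nil, or_false] at hp
      rcases hp with rfl | rfl | rfl | rfl | rfl | rfl <;> assumption
    have e : liftF K (chevF4.stH r (1 : F₂)) = 1 := by
      rw [ChevalleyDatum.stH, liftF_word K _ hw]
      simp only [ChevalleyDatum.hWord, ChevalleyDatum.nWord, inv_one, inv_neg,
        show (-1 : F₂) = 1 from by decide, List.cons_append, List.nil_append, List.map_cons,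
        List.map_nil, List.prod_cons, List.prod_nil, img, one_ne_zero, if_false, mul_one]
      rw [← mul_assoc (g K r) (g K r), g_sq K hr, one_mul,
        ← mul_assoc (g K (chevF4.neg r)) (g K (chevF4.neg r)), g_sq K hn, one_mul, g_sq K hr]
    simp only [map_mul, map_inv, one_mul, e, inv_one, mul_one]

/-- The map on the presented group. -/
noncomputable def phi : chevF4.SteinbergGroup F₂ →* GL chevE6.Idx K :=
  PresentedGroup.toGroup (f := fun p : Fin chevF4.nroots × F₂ => img K p.1 p.2) (liftF_rels K)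

omit K [Field K] [CharP K 2] in
theorem proj_bijective : Function.Bijective (groupProj sysF4 F₂) := by
  refine ⟨(MonoidHom.ker_eq_bot_iff _).1 (le_bot_iff.1 ?_), groupProj_surjective sysF4 F₂⟩
  refine (groupProj_ker_le sysF4 F₂ witness_F4).trans ((Subgroup.closure_le _).2 ?_)
  rintro _ ⟨i, t, hi, ht, rfl⟩
  obtain rfl := (zmod2 t).resolve_left ht
  have h := PresentedGroup.one_of_mem (rels := chevF4.steinbergRels F₂)
    (Or.inr ⟨chevF4.simple i, (1 : F₂), 1, Sys.wf sysF4 |>.simple_lt i hi, one_ne_zero, one_ne_zero,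
      rfl⟩)
  rw [map_mul, map_mul, map_inv, one_mul, mul_inv_cancel_right] at h
  exact h

/-- `F₄(2)` to `E₆`. -/
noncomputable def psi : ↥(chevF4.group F₂) →* GL chevE6.Idx K :=
  (phi K).comp (MulEquiv.ofBijective _ proj_bijective).symm.toMonoidHom

theorem psi_xG {r : ℕ} (hr : r < 48) :
    psi K ⟨Sys.xG sysF4 F₂ r 1, Sys.xG_mem sysF4 F₂ hr 1⟩ = g K r := by
  have e : groupProj sysF4 F₂ (chevF4.stGen F₂ r 1) =
      ⟨Sys.xG sysF4 F₂ r 1, Sys.xG_mem sysF4 F₂ hr 1⟩ := Subtype.ext (groupProj_gen sysF4 F₂ r 1)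
  show phi K ((MulEquiv.ofBijective _ proj_bijective).symm _) = _
  rw [← e]
  rw [show (MulEquiv.ofBijective (groupProj sysF4 F₂) proj_bijective).symm
      (groupProj sysF4 F₂ (chevF4.stGen F₂ r 1)) = chevF4.stGen F₂ r 1 from
    (MulEquiv.symm_apply_eq _).2 rfl]
  show liftF K (chevF4.stX r 1) = _
  rw [liftF_stX K hr]
  simp [img]

theorem xG_zero_or {r : ℕ} (hr : r < 48) (t : F₂) (H : Subgroup (GL chevE6.Idx K)) (h : g K r ∈ H) :
    psi K ⟨Sys.xG sysF4 F₂ r t, Sys.xG_mem sysF4 F₂ hr t⟩ ∈ H := by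
  rcases zmod2 t with rfl | rfl
  · convert H.one_mem
    rw [← (psi K).map_one]
    congr 1
    exact Subtype.ext (Sys.xG_zero sysF4 F₂ r)
  · rw [psi_xG K hr]; exact h

/-- The image lies in any subgroup holding the images of the root elements. -/
theorem range_le {H : Subgroup (GL chevE6.Idx K)} (h : ∀ r < 48, g K r ∈ H) :
    (psi K).range ≤ H := by
  rintro _ ⟨⟨x, hx⟩, rfl⟩
  have hle : chevF4.group F₂ ≤ (H.comap (psi K)).map (chevF4.group F₂).subtype := by
    refine (Sys.group_eq sysF4 F₂).le.trans ((Subgroup.closure_le _).2 ?_)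
    rintro _ ⟨r, hr, t, rfl⟩
    exact ⟨⟨_, Sys.xG_mem sysF4 F₂ hr t⟩, xG_zero_or K hr t H (h r hr), rfl⟩
  obtain ⟨z, hz, e⟩ := hle hx
  have : z = ⟨x, hx⟩ := Subtype.ext e
  subst this
  exact hz

theorem psi_injective : Function.Injective (psi K) := by
  haveI := (Cfsg.Agent.S1054.result (F := F₂) chevF4 (by simp)).1
  refine (MonoidHom.ker_eq_bot_iff _).1 ?_
  rcases IsSimpleGroup.eq_bot_or_eq_top_of_normal (psi K).ker inferInstance with h | h
  · exact h
  exfalso
  have h1 : g K 24 = 1 := by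
    rw [← psi_xG K (show 24 < 48 by omega)]
    exact MonoidHom.mem_ker.1 (h ▸ Subgroup.mem_top _)
  have h2 : g K 24 = Sys.xProd sysE6 K [46] fun _ => 1 :=
    congrArg (fun L => Sys.xProd sysE6 K L fun _ => (1 : K)) (by decide : fib 24 = [46])
  rw [h1, Sys.xProd_cons, Sys.xProd_nil, mul_one, ← Sys.xG_zero sysE6 K 46] at h2
  exact one_ne_zero (TwistedLie.xG_inj sysE6 K (r := 46) (show 46 < chevE6.nroots by decide) h2).symm

theorem gens_words : wordEqBit chevE6 (fib 33) [56, 36] = true ∧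
    wordEqBit chevE6 (fib 27) [42, 37] = true ∧ wordEqBit chevE6 (fib 14) [15, 35] = true ∧
    wordEqBit chevE6 (fib 20) [29, 34] = true ∧ fib 25 = [39] ∧ fib 24 = [46] ∧ fib 22 = [32] ∧
    fib 23 = [25] := by decide +kernel

theorem g_twisted : ∀ r < 48, g K r ∈ twistedE6 K 2 := by
  obtain ⟨w33, w27, w14, w20, w25, w24, w22, w23⟩ := gens_words
  have hs : ∀ r, (∃ a, fib r = [a] ∧ a ∈ [e6p2, e6m2, e6p4, e6m4]) → g K r ∈ twistedE6 K 2 := by
    rintro r ⟨a, e, ha⟩
    have := TwistedLie.wG_mem_gen sysE6 K (W := e6Words K 2) (w := [(a, (1 : K))])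
      (Or.inl ⟨1, one_pow _, a, ha, rfl⟩)
    have e2 : g K r = Sys.wG sysE6 K [(a, (1 : K))] := by
      rw [g, e]; simp [Sys.wG, Sys.xProd_cons, Sys.xProd_nil]
    exact e2 ▸ this
  have hp : ∀ r a b, wordEqBit chevE6 (fib r) [a, b] = true →
      (a, b) ∈ [(e6p1, e6p6), (e6m1, e6m6), (e6p3, e6p5), (e6m3, e6m5)] → g K r ∈ twistedE6 K 2 := by
    intro r a b e hab
    have := TwistedLie.wG_mem_gen sysE6 K (W := e6Words K 2) (w := [(a, (1 : K)), (b, (1 : K) ^ 2)])
      (Or.inr ⟨1, (a, b), hab, rfl⟩)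
    have e2 : g K r = Sys.wG sysE6 K [(a, (1 : K)), (b, (1 : K) ^ 2)] := by
      rw [g, Sys.wordEqBit_sound K sysE6 e]; simp [Sys.wG, Sys.xProd_cons, Sys.xProd_nil]
    exact e2 ▸ this
  have h24 := hs 24 ⟨46, w24, by decide⟩
  have h25 := hs 25 ⟨39, w25, by decide⟩
  have h22 := hs 22 ⟨32, w22, by decide⟩
  have h23 := hs 23 ⟨25, w23, by decide⟩
  have h33 := hp 33 56 36 w33 (by decide)
  have h27 := hp 27 42 37 w27 (by decide)
  have h14 := hp 14 15 35 w14 (by decide)
  have h20 := hp 20 29 34 w20 (by decide)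
  have hm : ∀ i < 4, mE K i ∈ twistedE6 K 2 := by
    intro i hi
    obtain ⟨a0, a1, a2, a3⟩ := (by decide +kernel : chevF4.simple 0 = 33 ∧ chevF4.simple 1 = 27 ∧
      chevF4.simple 2 = 25 ∧ chevF4.simple 3 = 24)
    obtain ⟨b0, b1, b2, b3⟩ := (by decide +kernel : chevF4.neg 33 = 14 ∧ chevF4.neg 27 = 20 ∧
      chevF4.neg 25 = 22 ∧ chevF4.neg 24 = 23)
    interval_cases i <;> simp only [mE, a0, a1, a2, a3, b0, b1, b2, b3] <;>
      refine mul_mem (mul_mem ?_ ?_) ?_ <;> assumption
  exact reach h24 h33 fun i hi r hr h => conj_g K hi hr ▸ mul_mem (mul_mem (hm i hi) h) (hm i hi)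

end CfsgLib.E6TwoF4
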