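import Cfsg.Agent.Chevalley.InvCoord
import Cfsg.Agent.Chevalley.Bruhat

/-!
Coordinates at fundamental roots, and regular unipotent elements: an element carrying one into `U`
lies in `B`.
-/

set_option autoImplicit false

namespace CfsgLib.Chevalley

open Cfsg.Lie

variable {D : ChevalleyDatum}

namespace Sys

variable (S : Sys D) (F : Type*) [Field F]
include S

theorem closed_univ' : S.Closed Set.univ := fun _ _ _ _ _ _ _ _ _ _ _ _ _ => Set.mem_univ _

theorem closed_off_simple (i : Fin D.rank) : S.Closed (Set.univ \ {D.simple i}) := by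
  intro r _ s _ hr hs k hk a b ha hb hv
  refine ⟨Set.mem_univ _, fun e => ?_⟩
  rw [Set.mem_singleton_iff] at e
  obtain ⟨r1, r2⟩ := (S.pos_iff r).mp hr
  obtain ⟨s1, s2⟩ := (S.pos_iff s).mp hs
  have h1 : ∑ m ∈ Finset.range D.rank, S.vec m k = 1 := by
    rw [e, Finset.sum_eq_single_of_mem (i : ℕ) (Finset.mem_range.mpr i.isLt) fun m hm hmi => by
      rw [S.vec_simple i i.isLt m (Finset.mem_range.mp hm), if_neg hmi]]
    rw [S.vec_simple i i.isLt i i.isLt, if_pos rfl]
  have h2 : ∀ r, r < D.nroots → D.nroots / 2 ≤ r → 1 ≤ ∑ m ∈ Finset.range D.rank, S.vec m r := by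
    intro r hr hp
    obtain ⟨j, hj, hjp⟩ := S.exists_vec_pos hr hp
    exact le_trans (by omega) (Finset.single_le_sum
      (fun m hm => S.vec_pos r hr hp m (Finset.mem_range.mp hm)) (Finset.mem_range.mpr hj))
  rw [Finset.sum_congr rfl fun m hm => hv m (Finset.mem_range.mp hm), Finset.sum_add_distrib,
    ← Finset.mul_sum, ← Finset.mul_sum] at h1
  have e1 := h2 r r2 r1
  have e2 := h2 s s2 s1
  have ha' : (1 : ℤ) ≤ a := by exact_mod_cast ha
  have hb' : (1 : ℤ) ≤ b := by exact_mod_cast hb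
  nlinarith

theorem simple_pos' (i : Fin D.rank) : D.nroots / 2 ≤ D.simple i ∧ D.simple i < D.nroots :=
  ⟨S.simple_pos i i.isLt, S.wf.simple_lt i i.isLt⟩

open Classical in
/-- The coordinate at a fundamental root. -/
noncomputable def sco (i : Fin D.rank) (q : GL D.Idx F) : F :=
  if h : ∃ c, S.Coord F Set.univ (D.simple i) q c then h.choose else 0

variable {F}

theorem sco_spec (i : Fin D.rank) {q : GL D.Idx F} (hq : q ∈ D.posUnipotent F) :
    S.Coord F Set.univ (D.simple i) q (S.sco F i q) := by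
  rw [← uSub_univ] at hq
  have h := S.exists_coord S.closed_univ' (Set.mem_univ _) (S.simple_pos' i) hq
  rw [sco, dif_pos h]
  exact h.choose_spec

theorem sco_eq (i : Fin D.rank) {q : GL D.Idx F} (hq : q ∈ D.posUnipotent F) {c : F}
    (h : S.Coord F Set.univ (D.simple i) q c) : S.sco F i q = c :=
  S.coord_unique (S.closed_off_simple i) (S.simple_pos' i).2 (S.sco_spec i hq) h

theorem sco_one (i : Fin D.rank) : S.sco F i 1 = 0 :=
  S.sco_eq i (one_mem _) (S.coord_one _ _)

theorem sco_mul (i : Fin D.rank) {q r : GL D.Idx F} (hq : q ∈ D.posUnipotent F)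
    (hr : r ∈ D.posUnipotent F) : S.sco F i (q * r) = S.sco F i q + S.sco F i r :=
  S.sco_eq i (mul_mem hq hr) (S.coord_mul S.closed_univ' (Set.mem_univ _) (S.simple_pos' i)
    (S.sco_spec i hq) (S.sco_spec i hr))

theorem sco_inv (i : Fin D.rank) {q : GL D.Idx F} (hq : q ∈ D.posUnipotent F) :
    S.sco F i q⁻¹ = -S.sco F i q := by
  have := S.sco_mul i hq (inv_mem hq)
  rw [mul_inv_cancel, S.sco_one i] at this
  exact eq_neg_of_add_eq_zero_right this.symm

theorem sco_xG (i : Fin D.rank) {r : ℕ} (h1 : D.nroots / 2 ≤ r) (h2 : r < D.nroots) (t : F) :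
    S.xG F r t ∈ D.posUnipotent F ∧ S.sco F i (S.xG F r t) = if r = D.simple i then t else 0 := by
  have hm : S.xG F r t ∈ D.posUnipotent F := by
    rw [← uSub_univ]
    exact S.xG_mem_uSub F (Set.mem_univ r) h1 h2 t
  exact ⟨hm, S.sco_eq i hm (S.coord_xG (Set.mem_univ r) ⟨h1, h2⟩ t)⟩

theorem sco_tor (i : Fin D.rank) (c : ℕ → Fˣ) {q : GL D.Idx F} (hq : q ∈ D.posUnipotent F) :
    tor D F c * q * (tor D F c)⁻¹ ∈ D.posUnipotent F ∧
      S.sco F i (tor D F c * q * (tor D F c)⁻¹) =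
        (torusVal D c (D.simple i) : F) * S.sco F i q := by
  have hq' := hq
  rw [← uSub_univ] at hq'
  have hm := S.tor_conj_uSub F c hq'
  rw [uSub_univ] at hm
  refine ⟨hm, S.sco_eq i hm ?_⟩
  have h := S.tor_conj_uSub F c (S.sco_spec i hq)
  show (S.xG F _ _)⁻¹ * _ ∈ uSub D F _
  convert h using 1
  rw [← S.tor_conj F c (S.simple_pos' i).2]
  group

theorem borel_conj_U {b z : GL D.Idx F} (hb : b ∈ D.borelSubgroup F) (hz : z ∈ D.posUnipotent F) :
    b * z * b⁻¹ ∈ D.posUnipotent F := by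
  obtain ⟨u, hu, c, rfl⟩ := (S.mem_borel F).mp hb
  have h : tor D F c * z * (tor D F c)⁻¹ ∈ D.posUnipotent F := by
    have hz' := hz
    rw [← uSub_univ] at hz' ⊢
    exact S.tor_conj_uSub F c hz'
  have e : u * tor D F c * z * (u * tor D F c)⁻¹ =
      u * (tor D F c * z * (tor D F c)⁻¹) * u⁻¹ := by group
  rw [e]
  exact mul_mem (mul_mem hu h) (inv_mem hu)

/-- An element carrying a regular unipotent element into `U` lies in `B`. -/
theorem mem_borel_of_regular {g v : GL D.Idx F} (hg : g ∈ D.group F)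
    (hv : v ∈ D.posUnipotent F) (hne : ∀ i, S.sco F i v ≠ 0)
    (h : g * v * g⁻¹ ∈ D.posUnipotent F) : g ∈ D.borelSubgroup F := by
  obtain ⟨b, hb, n, u, hu, rfl⟩ := S.normal_form_exists F hg
  have huU := uSub_le_posUnipotent F _ hu
  set v' := u * v * u⁻¹ with hv'
  have hv'U : v' ∈ D.posUnipotent F := mul_mem (mul_mem huU hv) (inv_mem huU)
  have hne' : ∀ i, S.sco F i v' ≠ 0 := fun i => by
    rw [hv', S.sco_mul i (mul_mem huU hv) (inv_mem huU), S.sco_mul i huU hv, S.sco_inv i huU]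
    simpa using hne i
  have hn : (n : GL D.Idx F) * v' * (n : GL D.Idx F)⁻¹ ∈ D.posUnipotent F := by
    have := S.borel_conj_U (inv_mem hb) h
    simpa [hv', mul_assoc] using this
  by_cases hflip : ∀ i : Fin D.rank, D.nroots / 2 ≤ (S.perm F n (S.simpleF i) : ℕ)
  · obtain ⟨L, hd, hhd, e⟩ := S.exists_wN F n
    have hp : S.perm F n = S.wperm L := by rw [e, map_mul, S.perm_of_mem_hSub F hhd, mul_one, S.perm_wN]
    have h1 : S.wperm L = 1 := by
      refine S.wperm_eq_one F L fun s hs => ?_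
      obtain ⟨j, hj, hjp⟩ := S.exists_vec_pos s.isLt hs
      by_contra hneg
      obtain ⟨l, hl, hlp⟩ := S.exists_vec_pos (S.wf.neg_lt _ (Fin.isLt (S.wperm L s)))
        (S.root_lt_pos (Fin.isLt _) (not_le.mp hneg))
      rw [S.vec_neg l hl _ (Fin.isLt _), S.vec_wperm L s l hl] at hlp
      have : 0 ≤ ∑ m : Fin D.rank, S.vec m s * S.vec l (S.wperm L (S.simpleF m) : ℕ) :=
        Finset.sum_nonneg fun m _ => mul_nonneg (S.vec_pos s s.isLt hs m m.isLt)
          (S.vec_pos _ (Fin.isLt _) (hp ▸ hflip m) l hl)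
      omega
    have hker : n ∈ hSub D F := by
      rw [← S.ker_perm F, MonoidHom.mem_ker, hp, h1]
    exact mul_mem (mul_mem hb (Subgroup.mem_sup_right hker)) (Subgroup.mem_sup_left huU)
  · exfalso
    push Not at hflip
    obtain ⟨i, hi⟩ := hflip
    have hv'' := hv'U
    rw [← S.uSub_kept_union_flip F n] at hv''
    obtain ⟨p, hp, q, hq, e⟩ := S.uSub_union_mul F (S.closed_keptSet F n) (S.closed_flipSet F n)
      (S.closed_kept_union_flip F n) hv''
    have hnp := S.conj_kept F n hp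
    have hnq : (n : GL D.Idx F) * q * (n : GL D.Idx F)⁻¹ ∈ D.posUnipotent F := by
      have := mul_mem (inv_mem hnp) hn
      rw [e] at this
      simpa [mul_assoc] using this
    have hnq' : (n : GL D.Idx F) * q * (n : GL D.Idx F)⁻¹ ∈ D.negUnipotent F := by
      refine closure_conj_mem ?_ hq
      rintro x ⟨r, t, ⟨⟨hr, hr1⟩, -⟩, hx⟩
      obtain ⟨c, -, hct⟩ := S.conj_root F n ⟨r, hr⟩
      rw [S.eq_xG F hx, show S.xG F r t = S.xG F (⟨r, hr⟩ : Fin D.nroots) t from rfl, (hct t).1]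
      exact S.xG_mem_negUnipotent F hr1 _
    have hq1 : q = 1 := by
      have hmem : (n : GL D.Idx F) * q * (n : GL D.Idx F)⁻¹ ∈
          D.borelSubgroup F ⊓ D.negUnipotent F := ⟨Subgroup.mem_sup_left hnq, hnq'⟩
      rw [S.borel_inf_neg F, Subgroup.mem_bot, mul_inv_eq_one, mul_eq_left] at hmem
      exact hmem
    refine hne' i (S.sco_eq i hv'U ?_)
    refine (S.coord_zero_iff).mpr ?_
    rw [e, hq1, mul_one]
    refine uSub_mono (P := S.keptSet F n) (Q := Set.univ \ {D.simple i})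
      (fun r hr => ⟨Set.mem_univ r, fun er => ?_⟩) hp
    obtain ⟨h', hr'⟩ := hr
    have : (⟨r, h'⟩ : Fin D.nroots) = S.simpleF i := Fin.ext er
    rw [this] at hr'
    exact absurd hr' (not_le.mpr hi)

end Sys

end CfsgLib.Chevalley
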