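import Cfsg.Agent.E6TwoF4.Hom
import Cfsg.Agent.E6TwoF4.Regular
import Cfsg.Agent.SteinbergChar.Degree

/-!
Three copies of `F₄(2)` in `²E₆(2)`, conjugate under the diagonal automorphism and not in the group.
-/

set_option autoImplicit false

namespace CfsgLib.E6TwoF4

open Cfsg.Lie CfsgLib.Chevalley
open scoped Pointwise

local notation "S" => sysE6
local notation "F₂" => ZMod 2

variable (K : Type*) [Field K] (w : Kˣ)

/-- The exponent of the diagonal element at a root. -/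
noncomputable def ex (r : ℕ) : ℤ := Sys.vec S 0 r + 2 * Sys.vec S 5 r

/-- The diagonal element. -/
noncomputable def dd (e : ℤ) : GL chevE6.Idx K := dgG chevE6 fun s => w ^ (e * ex s)

theorem dd_add (a b : ℤ) : dd K w a * dd K w b = dd K w (a + b) := by
  rw [dd, dd, dd, dgG_mul]
  congr 1
  funext s
  rw [Pi.mul_apply, ← zpow_add, add_mul]

theorem dd_zero : dd K w 0 = 1 := by
  have h := dd_add K w 0 0
  rw [add_zero] at h
  exact mul_eq_left.mp h

theorem dd_inv (a : ℤ) : (dd K w a)⁻¹ = dd K w (-a) :=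
  inv_eq_of_mul_eq_one_right (by rw [dd_add, add_neg_cancel, dd_zero])

theorem dd_conj (e : ℤ) {r : ℕ} (hr : r < 72) (t : K) :
    dd K w e * Sys.xG S K r t * (dd K w e)⁻¹ = Sys.xG S K r (((w ^ (e * ex r) : Kˣ) : K) * t) := by
  set c : ℕ → Kˣ := fun j => if j = 0 then w ^ e else if j = 5 then w ^ (2 * e) else 1 with hc
  have hχ : (fun s => ((w ^ (e * ex s) : Kˣ) : K)) = Sys.char S c := by
    funext s
    show _ = ((∏ j ∈ Finset.range chevE6.rank, c j ^ Sys.vec S j s : Kˣ) : K)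
    congr 1
    rw [show Finset.range chevE6.rank = Finset.range 6 from rfl]
    simp only [Finset.prod_range_succ, Finset.prod_range_zero, hc]
    simp [ex, mul_add, zpow_add, ← zpow_mul, mul_assoc, mul_left_comm]
  rw [mul_inv_eq_iff_eq_mul]
  apply Units.ext
  rw [Units.val_mul, Units.val_mul, Sys.xG_val, Sys.xG_val, dd, dgG_val]
  have h := Sys.dg_x S (Sys.char_isChar S c) (r := r) hr t
  rw [← hχ] at h
  exact h

theorem dd_mem_conj (e : ℤ) {g : GL chevE6.Idx K} (hg : g ∈ chevE6.group K) :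
    dd K w e * g * (dd K w e)⁻¹ ∈ chevE6.group K := by
  have hle : chevE6.group K ≤ (chevE6.group K).comap (MulAut.conj (dd K w e)).toMonoidHom := by
    refine (Sys.group_eq S K).le.trans ((Subgroup.closure_le _).mpr ?_)
    rintro _ ⟨r, hr, t, rfl⟩
    rw [SetLike.mem_coe, Subgroup.mem_comap, MulEquiv.coe_toMonoidHom, MulAut.conj_apply,
      dd_conj K w e hr]
    exact Sys.xG_mem S K hr _
  exact hle hg

theorem twisted_le : twistedE6 K 2 ≤ chevE6.group K := by
  refine TwistedLie.gen_le S K ?_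
  intro v hv
  refine Sys.wG_mem S K ?_
  rcases hv with ⟨t, -, r, hr, rfl⟩ | ⟨t, rs, hrs, rfl⟩
  · intro x hx
    rw [List.mem_singleton] at hx
    subst hx
    exact (by decide : ∀ r ∈ [e6p2, e6m2, e6p4, e6m4], r < chevE6.nroots) r hr
  · intro x hx
    have h := (by decide : ∀ rs ∈ [(e6p1, e6p6), (e6m1, e6m6), (e6p3, e6p5), (e6m3, e6m5)],
      rs.1 < chevE6.nroots ∧ rs.2 < chevE6.nroots) rs hrs
    simp only [List.mem_cons, List.not_mem_nil, or_false] at hx
    rcases hx with rfl | rfl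
    exacts [h.1, h.2]

theorem ex_vals : ex 46 = 0 ∧ ex 25 = 0 ∧ ex 39 = 0 ∧ ex 32 = 0 ∧ ex 56 = 1 ∧ ex 36 = 2 ∧
    ex 15 = -1 ∧ ex 35 = -2 ∧ ex 42 = 0 ∧ ex 37 = 0 :=
  (by decide +kernel : ∀ f : Unit, (let c := fun r : ℕ => tabE6.coord 6 0 r + 2 * tabE6.coord 6 5 r
    c 46 = 0 ∧ c 25 = 0 ∧ c 39 = 0 ∧ c 32 = 0 ∧ c 56 = 1 ∧ c 36 = 2 ∧ c 15 = -1 ∧ c 35 = -2 ∧
      c 42 = 0 ∧ c 37 = 0)) ()

theorem dd_twisted (e : ℤ) {g : GL chevE6.Idx K} (hg : g ∈ twistedE6 K 2) :
    dd K w e * g * (dd K w e)⁻¹ ∈ twistedE6 K 2 := by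
  have hle : twistedE6 K 2 ≤ (twistedE6 K 2).comap (MulAut.conj (dd K w e)).toMonoidHom := by
    refine TwistedLie.gen_le S K ?_
    intro v hv
    rw [Subgroup.mem_comap, MulEquiv.coe_toMonoidHom, MulAut.conj_apply]
    obtain ⟨x46, x25, x39, x32, x56, x36, x15, x35, x42, x37⟩ := ex_vals
    rcases hv with ⟨t, ht, r, hr, rfl⟩ | ⟨t, rs, hrs, rfl⟩
    · have h48 := (by decide : ∀ r ∈ [e6p2, e6m2, e6p4, e6m4], r < 72) r hr
      have hx : ex r = 0 := by
        simp only [e6p2, e6m2, e6p4, e6m4, List.mem_cons, List.not_mem_nil, or_false] at hr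
        rcases hr with rfl | rfl | rfl | rfl <;> assumption
      have := TwistedLie.wG_mem_gen S K (W := e6Words K 2) (w := [(r, t)])
        (Or.inl ⟨t, ht, r, hr, rfl⟩)
      have e1 : Sys.wG S K [(r, t)] = Sys.xG S K r t := by simp [Sys.wG]
      rw [e1] at this ⊢
      rw [dd_conj K w e h48, hx, mul_zero, zpow_zero, Units.val_one, one_mul]
      exact this
    · obtain ⟨a, b⟩ := rs
      have h72 := (by decide : ∀ rs ∈ [(e6p1, e6p6), (e6m1, e6m6), (e6p3, e6p5), (e6m3, e6m5)],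
        rs.1 < 72 ∧ rs.2 < 72) (a, b) hrs
      have hx : ex b = 2 * ex a := by
        simp only [e6p1, e6p6, e6m1, e6m6, e6p3, e6p5, e6m3, e6m5, List.mem_cons, Prod.mk.injEq,
          List.not_mem_nil, or_false] at hrs
        rcases hrs with ⟨rfl, rfl⟩ | ⟨rfl, rfl⟩ | ⟨rfl, rfl⟩ | ⟨rfl, rfl⟩
        · rw [x36, x56]; ring
        · rw [x35, x15]; ring
        · rw [x37, x42]; ring
        · rw [(by decide +kernel : ∀ f : Unit, (let c := fun r : ℕ => tabE6.coord 6 0 r + 2 * tabE6.coord 6 5 r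
              c 34 = 0 ∧ c 29 = 0)) () |>.1 |> fun h => (h : ex 34 = 0),
            (by decide +kernel : ∀ f : Unit, (let c := fun r : ℕ => tabE6.coord 6 0 r + 2 * tabE6.coord 6 5 r
              c 34 = 0 ∧ c 29 = 0)) () |>.2 |> fun h => (h : ex 29 = 0)]
          ring
      set u : K := ((w ^ (e * ex a) : Kˣ) : K) * t with hu
      have := TwistedLie.wG_mem_gen S K (W := e6Words K 2) (w := [(a, u), (b, u ^ 2)])
        (Or.inr ⟨u, (a, b), hrs, rfl⟩)
      have e1 : ∀ x y : K, Sys.wG S K [(a, x), (b, y)] = Sys.xG S K a x * Sys.xG S K b y :=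
        fun x y => by simp [Sys.wG]
      rw [e1] at this
      rw [e1, show ∀ x y : GL chevE6.Idx K, dd K w e * (x * y) * (dd K w e)⁻¹ =
        (dd K w e * x * (dd K w e)⁻¹) * (dd K w e * y * (dd K w e)⁻¹) from fun x y => by group,
        dd_conj K w e h72.1, dd_conj K w e h72.2]
      have e2 : ((w ^ (e * ex b) : Kˣ) : K) * t ^ 2 = u ^ 2 := by
        rw [hu, mul_pow, hx, ← Units.val_pow_eq_pow_val, ← zpow_natCast (w ^ (e * ex a)) 2, ← zpow_mul]
        rw [show e * (2 * ex a) = e * ex a * ((2 : ℕ) : ℤ) by push_cast; ring]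
      rw [e2]
      exact this
  exact hle hg

theorem simple_lists : ∀ i : Fin chevE6.rank, ∃ r ∈ [33, 27, 25, 24], chevE6.simple i ∈ fib r := by
  decide +kernel

theorem fib_pos : ∀ r < 48, 24 ≤ r → ∀ a ∈ fib r, 36 ≤ a ∧ a < 72 := by decide +kernel

theorem cartan_mod : ∀ j < 6,
    ([1, 0, 2, 0, 1, 2].zipWith (· * ·) ((List.range 6).map fun i => chevE6.cartan j (chevE6.simple i))).sum % (3 : ℤ) = 0 := by
  decide +kernel

variable [CharP K 2]

/-- The values of coordinates at fundamental roots on the image of a positive element. -/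
theorem sco_psi (i : Fin chevE6.rank) : ∀ x : ↥(chevF4.group F₂),
    (x : GL chevF4.Idx F₂) ∈ chevF4.posUnipotent F₂ →
      psi K x ∈ chevE6.posUnipotent K ∧ (Sys.sco S K i (psi K x) = 0 ∨ Sys.sco S K i (psi K x) = 1) := by
  let M : Subgroup (GL chevE6.Idx K) :=
    { carrier := {y | y ∈ chevE6.posUnipotent K ∧ (Sys.sco S K i y = 0 ∨ Sys.sco S K i y = 1)}
      one_mem' := ⟨one_mem _, Or.inl (Sys.sco_one S i)⟩
      mul_mem' := fun {a b} ha hb => ⟨mul_mem ha.1 hb.1, by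
        rw [Sys.sco_mul S i ha.1 hb.1]
        rcases ha.2 with e | e <;> rcases hb.2 with e' | e' <;> simp [e, e', CharTwo.add_self_eq_zero]⟩
      inv_mem' := fun {a} ha => ⟨inv_mem ha.1, by rw [Sys.sco_inv S i ha.1, CharTwo.neg_eq]; exact ha.2⟩ }
  have hg : ∀ r < 48, 24 ≤ r → g K r ∈ M := by
    intro r hr hr'
    rw [g, Sys.xProd]
    refine M.list_prod_mem fun y hy => ?_
    obtain ⟨a, ha, rfl⟩ := List.mem_map.mp hy
    obtain ⟨a1, a2⟩ := fib_pos r hr hr' a ha
    obtain ⟨h1, h2⟩ := Sys.sco_xG S i (r := a) a1 a2 (1 : K)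
    refine ⟨h1, ?_⟩
    rw [h2]
    split_ifs <;> simp
  intro x hx
  have hle : chevF4.posUnipotent F₂ ≤ (M.comap (psi K)).map (chevF4.group F₂).subtype := by
    rw [← uSub_univ]
    refine Sys.uSub_le sysF4 F₂ fun r _ h1 h2 t => ?_
    exact ⟨⟨_, Sys.xG_mem sysF4 F₂ h2 t⟩, xG_zero_or K h2 t M (hg r h2 h1), rfl⟩
  obtain ⟨z, hz, e⟩ := hle hx
  have : z = x := Subtype.ext e
  subst this
  exact hz

variable [Fintype K]

/-- The separation. -/
theorem key (hK : Fintype.card K = 4) (hw : w ≠ 1) {h : GL chevE6.Idx K} (hh : h ∈ chevE6.group K)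
    (e : ℤ) (hn : ∀ y ∈ (psi K).range, (h * dd K w e) * y * (h * dd K w e)⁻¹ ∈ (psi K).range) :
    (3 : ℤ) ∣ e := by
  classical
  have h3 : ∀ u : Kˣ, u ^ 3 = 1 := by
    intro u
    have := pow_card_eq_one (x := u)
    rwa [Fintype.card_units, hK] at this
  have hord : orderOf w = 3 := orderOf_eq_prime (h3 w) hw
  have hU : ∀ r, 24 ≤ r → r < 48 → Sys.xG sysF4 F₂ r 1 ∈ chevF4.posUnipotent F₂ := fun r h1 h2 => by
    rw [← uSub_univ]
    exact Sys.xG_mem_uSub sysF4 F₂ (Set.mem_univ r) h1 h2 1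
  let el : ∀ r, r < 48 → ↥(chevF4.group F₂) := fun r hr =>
    ⟨Sys.xG sysF4 F₂ r 1, Sys.xG_mem sysF4 F₂ hr 1⟩
  set u₀ : ↥(chevF4.group F₂) :=
    el 33 (by omega) * el 27 (by omega) * el 25 (by omega) * el 24 (by omega) with hu₀
  have hu₀U : (u₀ : GL chevF4.Idx F₂) ∈ chevF4.posUnipotent F₂ :=
    mul_mem (mul_mem (mul_mem (hU 33 (by omega) (by omega)) (hU 27 (by omega) (by omega)))
      (hU 25 (by omega) (by omega))) (hU 24 (by omega) (by omega))
  set u := psi K u₀ with hu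
  have hu' : u = g K 33 * g K 27 * g K 25 * g K 24 := by
    rw [hu, hu₀, map_mul, map_mul, map_mul]
    simp only [el]
    rw [psi_xG K (show 33 < 48 by omega), psi_xG K (show 27 < 48 by omega),
      psi_xG K (show 25 < 48 by omega), psi_xG K (show 24 < 48 by omega)]
  have hsu : ∀ i, Sys.sco S K i u = 1 := by
    intro i
    have hw' : u = Sys.xProd S K (fib 33 ++ fib 27 ++ fib 25 ++ fib 24) fun _ => 1 := by
      rw [hu']; simp [xPA, g, mul_assoc]
    have key : ∀ L : List ℕ, (∀ a ∈ L, 36 ≤ a ∧ a < 72) →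
        Sys.xProd S K L (fun _ => (1 : K)) ∈ chevE6.posUnipotent K ∧
          Sys.sco S K i (Sys.xProd S K L fun _ => 1) = ((L.count (chevE6.simple i) : ℕ) : K) := by
      intro L
      induction L with
      | nil => intro _; exact ⟨one_mem _, by simpa [Sys.xProd_nil] using Sys.sco_one (F := K) S i⟩
      | cons a L ih =>
        intro hL
        rw [List.forall_mem_cons] at hL
        obtain ⟨h1, h2⟩ := Sys.sco_xG S i (r := a) hL.1.1 hL.1.2 (1 : K)
        obtain ⟨h3, h4⟩ := ih hL.2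
        rw [Sys.xProd_cons]
        refine ⟨mul_mem h1 h3, ?_⟩
        rw [Sys.sco_mul S i h1 h3, h2, h4, List.count_cons]
        by_cases ha : a = chevE6.simple i <;> simp [ha, add_comm]
    rw [hw', (key _ (by decide +kernel)).2]
    rw [(by decide +kernel : ∀ i : Fin chevE6.rank,
      (fib 33 ++ fib 27 ++ fib 25 ++ fib 24).count (chevE6.simple i) = 1) i]
    simp
  -- move the image of `u` into the positive part
  obtain ⟨y, hy⟩ := hn u ⟨u₀, rfl⟩
  haveI : Fact (Nat.Prime 2) := ⟨Nat.prime_two⟩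
  have hpg := CfsgLib.SteinbergChar.isPGroup_posUnipotent sysF4 F₂ 2
  obtain ⟨k, hk⟩ := hpg ⟨u₀, hu₀U⟩
  have hy2 : y ^ 2 ^ k = 1 := by
    refine psi_injective K ?_
    have hk' : u₀ ^ 2 ^ k = 1 := congrArg Subtype.val hk
    rw [map_pow, hy, conj_pow, hu, ← map_pow, hk', map_one, mul_one, mul_inv_cancel]
  obtain ⟨Q, hQ⟩ := CfsgLib.SteinbergChar.exists_sylow_eq sysF4 F₂ 2
  have hyp : IsPGroup 2 ↥(Subgroup.zpowers y) := by
    intro z
    obtain ⟨z, n, rfl⟩ := z
    refine ⟨k, Subtype.ext ?_⟩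
    show (y ^ n) ^ 2 ^ k = 1
    rw [← zpow_natCast, ← zpow_mul, mul_comm, zpow_mul, zpow_natCast, hy2, one_zpow]
  obtain ⟨Q', hQ'⟩ := hyp.exists_le_sylow
  obtain ⟨c, hc⟩ := MulAction.exists_smul_eq ↥(chevF4.group F₂) Q' Q
  have hmem : ((c * y * c⁻¹ : ↥(chevF4.group F₂)) : GL chevF4.Idx F₂) ∈ chevF4.posUnipotent F₂ := by
    have h1 : MulAut.conj c • y ∈ MulAut.conj c • (Q' : Subgroup ↥(chevF4.group F₂)) :=
      Subgroup.smul_mem_pointwise_smul _ _ _ (hQ' (Subgroup.mem_zpowers _))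
    rw [show MulAut.conj c • (Q' : Subgroup ↥(chevF4.group F₂)) =
      (Q : Subgroup ↥(chevF4.group F₂)) from
      congrArg (fun R : Sylow 2 ↥(chevF4.group F₂) => (R : Subgroup ↥(chevF4.group F₂))) hc, hQ] at h1
    exact h1
  set h' := psi K c * h with hh'
  have hh'm : h' ∈ chevE6.group K :=
    mul_mem (twisted_le K (range_le K (g_twisted K) ⟨c, rfl⟩)) hh
  set v := dd K w e * u * (dd K w e)⁻¹ with hv
  have hvv : h' * v * h'⁻¹ = psi K (c * y * c⁻¹) := by
    rw [map_mul, map_mul, map_inv, hy, hv, hh']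
    group
  obtain ⟨huU, -⟩ := sco_psi K ⟨0, by decide⟩ u₀ hu₀U
  -- the diagonal element as a torus-like scaling on coordinates
  have hvs : v ∈ chevE6.posUnipotent K ∧
      ∀ i : Fin chevE6.rank, Sys.sco S K i v = ((w ^ (e * ex (chevE6.simple i)) : Kˣ) : K) := by
    have gen : ∀ L : List ℕ, (∀ a ∈ L, 36 ≤ a ∧ a < 72) →
        dd K w e * Sys.xProd S K L (fun _ => (1 : K)) * (dd K w e)⁻¹ ∈ chevE6.posUnipotent K ∧
          ∀ i : Fin chevE6.rank,
            Sys.sco S K i (dd K w e * Sys.xProd S K L (fun _ => 1) * (dd K w e)⁻¹) =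
              (L.count (chevE6.simple i) : ℕ) * ((w ^ (e * ex (chevE6.simple i)) : Kˣ) : K) := by
      intro L
      induction L with
      | nil =>
        intro _
        rw [Sys.xProd_nil, mul_one, mul_inv_cancel]
        exact ⟨one_mem _, fun i => by simpa using Sys.sco_one (F := K) S i⟩
      | cons a L ih =>
        intro hL
        rw [List.forall_mem_cons] at hL
        obtain ⟨h3, h4⟩ := ih hL.2
        rw [Sys.xProd_cons, show ∀ x z : GL chevE6.Idx K, dd K w e * (x * z) * (dd K w e)⁻¹ =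
          (dd K w e * x * (dd K w e)⁻¹) * (dd K w e * z * (dd K w e)⁻¹) from fun x z => by group,
          dd_conj K w e hL.1.2, mul_one]
        refine ⟨mul_mem (Sys.sco_xG S ⟨0, by decide⟩ hL.1.1 hL.1.2 _).1 h3, fun i => ?_⟩
        obtain ⟨h1, h2⟩ := Sys.sco_xG S i (r := a) hL.1.1 hL.1.2 ((w ^ (e * ex a) : Kˣ) : K)
        rw [Sys.sco_mul S i h1 h3, h2, h4 i, List.count_cons]
        by_cases ha : a = chevE6.simple i <;> simp [ha, add_mul, add_comm]
    obtain ⟨g1, g2⟩ := gen (fib 33 ++ fib 27 ++ fib 25 ++ fib 24) (by decide +kernel)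
    have e' : Sys.xProd S K (fib 33 ++ fib 27 ++ fib 25 ++ fib 24) (fun _ => (1 : K)) = u := by
      rw [hu']; simp [xPA, g, mul_assoc]
    rw [e'] at g1 g2
    refine ⟨g1, fun i => ?_⟩
    rw [g2 i, (by decide +kernel : ∀ i : Fin chevE6.rank,
      (fib 33 ++ fib 27 ++ fib 25 ++ fib 24).count (chevE6.simple i) = 1) i]
    simp
  obtain ⟨hz, -⟩ := sco_psi K ⟨0, by decide⟩ _ hmem
  rw [← hvv] at hz
  have hB := Sys.mem_borel_of_regular S hh'm hvs.1
    (fun i => by rw [hvs.2 i]; exact Units.ne_zero _) hz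
  obtain ⟨x, hx, cc, hxc⟩ := (Sys.mem_borel S K).mp hB
  have hval : ∀ i : Fin chevE6.rank,
      torusVal chevE6 cc (chevE6.simple i) * w ^ (e * ex (chevE6.simple i)) = 1 := by
    intro i
    obtain ⟨hm, h01⟩ := sco_psi K i _ hmem
    obtain ⟨t1, t2⟩ := Sys.sco_tor S i cc hvs.1
    have e1 : psi K (c * y * c⁻¹) = x * (tor chevE6 K cc * v * (tor chevE6 K cc)⁻¹) * x⁻¹ := by
      rw [← hvv, hxc]; group
    rw [e1, Sys.sco_mul S i (mul_mem hx t1) (inv_mem hx), Sys.sco_mul S i hx t1, Sys.sco_inv S i hx,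
      t2, hvs.2 i, CharTwo.neg_eq, add_right_comm, CharTwo.add_self_eq_zero, zero_add] at h01
    rcases h01 with h0 | h0
    · exact absurd h0 (mul_ne_zero (Units.ne_zero _) (Units.ne_zero _))
    · exact Units.ext (by simpa using h0)
  -- the invariant
  let l : Fin 6 → ℤ := ![1, 0, 2, 0, 1, 2]
  have hprod : ∏ i : Fin 6, (torusVal chevE6 cc (chevE6.simple i)) ^ l i = 1 := by
    have e1 : ∀ i : Fin 6, (torusVal chevE6 cc (chevE6.simple i)) ^ l i =
        ∏ j ∈ Finset.range 6, cc j ^ (chevE6.cartan j (chevE6.simple i) * l i) := by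
      intro i
      show (∏ j ∈ Finset.range 6, cc j ^ chevE6.cartan j (chevE6.simple i)) ^ l i = _
      rw [← Finset.prod_zpow]
      exact Finset.prod_congr rfl fun j _ => (zpow_mul _ _ _).symm
    rw [Finset.prod_congr rfl fun i _ => e1 i, Finset.prod_comm]
    refine Finset.prod_eq_one fun j hj => ?_
    have hz : (3 : ℤ) ∣ ∑ i : Fin 6, chevE6.cartan j (chevE6.simple i) * l i := by
      refine Int.dvd_of_emod_eq_zero ?_
      exact (by decide +kernel : ∀ j < 6,
        (∑ i : Fin 6, chevE6.cartan j (chevE6.simple i) * (![1, 0, 2, 0, 1, 2] : Fin 6 → ℤ) i) % 3 = 0)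
        j (Finset.mem_range.mp hj)
    have hsum : ∀ s : Finset (Fin 6), ∀ f : Fin 6 → ℤ, ∏ i ∈ s, cc j ^ f i = cc j ^ ∑ i ∈ s, f i := by
      intro s f
      induction s using Finset.induction with
      | empty => simp
      | insert a s ha ih => rw [Finset.prod_insert ha, Finset.sum_insert ha, ih, zpow_add]
    rw [hsum]
    obtain ⟨n, hn'⟩ := hz
    rw [hn', zpow_mul, zpow_ofNat, h3, one_zpow]
  have hsum : w ^ ((e * 5 : ℤ)) = 1 := by
    have e1 : ∏ i : Fin 6, (torusVal chevE6 cc (chevE6.simple i) *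
        w ^ (e * ex (chevE6.simple i))) ^ l i = 1 :=
      Finset.prod_eq_one fun i _ => by rw [hval i, one_zpow]
    simp only [mul_zpow, Finset.prod_mul_distrib] at e1
    rw [hprod, one_mul] at e1
    have hex := (by decide +kernel : ∀ f : Unit, (let c := fun r : ℕ => tabE6.coord 6 0 r + 2 * tabE6.coord 6 5 r
      c (chevE6.simple 0) = 1 ∧ c (chevE6.simple 1) = 0 ∧ c (chevE6.simple 2) = 0 ∧
      c (chevE6.simple 3) = 0 ∧ c (chevE6.simple 4) = 0 ∧ c (chevE6.simple 5) = 2)) ()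
    obtain ⟨c0, c1, c2, c3, c4, c5⟩ : ex (chevE6.simple 0) = 1 ∧ ex (chevE6.simple 1) = 0 ∧
      ex (chevE6.simple 2) = 0 ∧ ex (chevE6.simple 3) = 0 ∧ ex (chevE6.simple 4) = 0 ∧
      ex (chevE6.simple 5) = 2 := hex
    simp only [Fin.prod_univ_six, l, ← zpow_mul, ← zpow_add] at e1
    rw [← e1]
    congr 1
    simp [c0, c1, c2, c3, c4, c5]
    ring
  have := orderOf_dvd_iff_zpow_eq_one.mpr hsum
  rw [hord] at this
  push_cast at this
  omega

end CfsgLib.E6TwoF4
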